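/-
`PSL_2(q)` with abelian Sylow 2-subgroups, `q` odd.

Main results:
* `card_sylow_two`       : such a Sylow 2-subgroup is a four-group
* `aut_fixing_sylow_two` : an automorphism of 2-power order fixing it pointwise is conjugation by one of its
  elements
-/
import Cfsg.Agent.Lib.PSL2.Klein
import Cfsg.Agent.Lib.AutPSL.Count

set_option autoImplicit false
set_option linter.unusedSectionVars false

open Matrix Subgroup

namespace Cfsg.Agent.JankoReeTypeAut

open Cfsg.Agent.PSL2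

variable {F : Type*} [Field F] [Finite F]

local notation "φ" => (ProjectiveSpecialLinearGroup.toPGL : PSL2 F →* PGL2 F)

theorem exists_pair {M : Type*} [Group M] [Finite M] {K : Subgroup M} (h4 : Nat.card ↥K = 4)
    (hsq : ∀ v ∈ K, v * v = 1) : ∃ a ∈ K, ∃ b ∈ K, a ≠ 1 ∧ b ≠ 1 ∧ a ≠ b := by
  obtain ⟨a, ha, ha1⟩ := (Subgroup.bot_or_exists_ne_one K).resolve_left (fun h => by
    rw [h, Subgroup.card_bot] at h4; omega)
  by_cases h : ∃ b ∈ K, b ≠ 1 ∧ a ≠ b
  · obtain ⟨b, hb, hb1, hne⟩ := h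
    exact ⟨a, ha, b, hb, ha1, hb1, hne⟩
  · push Not at h
    have hle : K ≤ zpowers a := fun b hb => by
      by_cases hb1 : b = 1
      · rw [hb1]; exact one_mem _
      · rw [← h b hb hb1]; exact mem_zpowers a
    have h1 : Nat.card ↥K ≤ Nat.card ↥(zpowers a) := Subgroup.card_le_of_le hle
    have h2 : orderOf a ≤ 2 := orderOf_le_of_pow_eq_one (by norm_num) (by rw [pow_two]; exact hsq a ha)
    rw [Nat.card_zpowers] at h1
    omega

/-- An abelian 2-subgroup containing a four-group is that four-group. -/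
theorem card_le_four (h2 : (2 : F) ≠ 0) {K P : Subgroup (PSL2 F)} (hK : IsKleinFour ↥K) (hKP : K ≤ P)
    (hP : ∀ x ∈ P, ∀ y ∈ P, x * y = y * x) : Nat.card ↥P ≤ 4 := by
  have : Finite (PGL2 F) := Finite.of_surjective _ ProjGenLinGroup.mk_surjective
  obtain ⟨a, ha, b, hb, ha1, hb1, hne⟩ := exists_pair hK.card_four
    (fun v hv => (klein_comm hK hv hv).1)
  rw [← card_centralizer_klein h2 hK ha hb ha1 hb1 hne]
  refine Nat.card_le_card_of_injective (fun v => ⟨φ v.1, ?_⟩) fun x y h =>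
    Subtype.ext (ProjectiveSpecialLinearGroup.toPGL_injective
      (congrArg (fun w : ↥(centralizer ({φ a, φ b} : Set (PGL2 F))) => (w : PGL2 F)) h))
  rw [mem_centralizer_iff]
  rintro z (rfl | rfl) <;> rw [← map_mul, ← map_mul]
  exacts [congrArg φ (hP _ (hKP ha) _ v.2), congrArg φ (hP _ (hKP hb) _ v.2)]

/-- An abelian Sylow 2-subgroup has order four. -/
theorem card_sylow_two (hodd : Odd (Nat.card F)) (P : Sylow 2 (PSL2 F))
    (hP : ∀ x ∈ (P : Subgroup (PSL2 F)), ∀ y ∈ (P : Subgroup (PSL2 F)), x * y = y * x) :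
    IsKleinFour ↥(P : Subgroup (PSL2 F)) := by
  have h2 : (2 : F) ≠ 0 := two_ne_zero_iff_odd.2 hodd
  obtain ⟨A₀, ⟨eA⟩⟩ := exists_alternatingFour_sub (F := F) h2
  obtain ⟨K, hK, -, -, -⟩ := exists_four A₀ (Or.inl ⟨eA⟩)
  obtain ⟨R, hR⟩ := (IsPGroup.of_card (p := 2) (n := 2) hK.card_four).exists_le_sylow
  obtain ⟨g, hg⟩ := MulAction.exists_smul_eq (PSL2 F) P R
  have hKR : ∀ x ∈ K, g⁻¹ * x * g ∈ (P : Subgroup (PSL2 F)) := by
    intro x hx
    have h1 : x ∈ (R : Subgroup (PSL2 F)) := hR hx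
    rw [← hg, Sylow.coe_subgroup_smul, Subgroup.mem_smul_pointwise_iff_exists] at h1
    obtain ⟨y, hy, rfl⟩ := h1
    rw [MulAut.smul_def, MulAut.conj_apply]
    simpa [mul_assoc] using hy
  set K' := K.map (MulAut.conj g⁻¹).toMonoidHom with hK'
  have hK'P : K' ≤ (P : Subgroup (PSL2 F)) := by
    rintro x ⟨y, hy, rfl⟩
    simpa [mul_assoc] using hKR y hy
  have e := Subgroup.equivMapOfInjective K (MulAut.conj g⁻¹).toMonoidHom (MulAut.conj g⁻¹).injective
  have hK'4 : IsKleinFour ↥K' :=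
    ⟨(Nat.card_congr e.toEquiv).symm.trans hK.card_four, by
      rw [← Monoid.exponent_eq_of_mulEquiv e, hK.exponent_two]⟩
  have hle := card_le_four h2 hK'4 hK'P hP
  have heq : K' = (P : Subgroup (PSL2 F)) := Subgroup.eq_of_le_of_card_ge hK'P (by rw [hK'4.card_four]; exact hle)
  rwa [← heq]

/-- The number of field automorphisms is odd. -/
theorem odd_fieldAut (hodd : Odd (Nat.card F)) (P : Sylow 2 (PSL2 F))
    (h4 : Nat.card ↥(P : Subgroup (PSL2 F)) = 4) : Odd (Nat.card (F ≃+* F)) := by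
  haveI := Fintype.ofFinite F
  obtain ⟨p, hp⟩ := CharP.exists F
  haveI := hp
  haveI : Fact p.Prime := ⟨CharP.char_is_prime F p⟩
  obtain ⟨n, hn, hc, h⟩ := q_cases (F := F) p
  rw [(AutPSL.fieldAut_facts p n hn (by rw [← Nat.card_eq_fintype_card]; exact hc)).2]
  rcases h with ⟨-, he, -, -⟩ | ⟨-, -, hgcd, -⟩
  · exact absurd he (Nat.not_even_iff_odd.mpr hodd)
  by_contra hn'
  obtain ⟨r, rfl⟩ := Nat.not_odd_iff_even.mp hn'
  set a := p ^ r with ha
  have hq : Nat.card F = a ^ 2 := by rw [hc, ha, ← pow_mul]; ring_nf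
  have hao : a % 2 = 1 := by
    have := Nat.odd_iff.mp hodd
    rw [hq, pow_two, Nat.mul_mod] at this
    rcases Nat.mod_two_eq_zero_or_one a with h | h
    · rw [h] at this; simp at this
    · exact h
  have hq8 : Nat.card F % 8 = 1 := by
    rw [hq, Nat.pow_mod]
    rcases (show a % 8 = 1 ∨ a % 8 = 3 ∨ a % 8 = 5 ∨ a % 8 = 7 by omega) with r | r | r | r <;>
      rw [r]
  have h16 : 16 ∣ (Nat.card F + 1) * (Nat.card F - 1) := by
    obtain ⟨i, hi⟩ : 2 ∣ Nat.card F + 1 := by omega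
    obtain ⟨j, hj⟩ : 8 ∣ Nat.card F - 1 := by omega
    exact ⟨i * j, by rw [hi, hj]; ring⟩
  have hm := card_psl_mul (F := F)
  rw [hgcd] at hm
  have h8 : 8 ∣ Nat.card (PSL2 F) := by
    have : 2 * 8 ∣ 2 * Nat.card (PSL2 F) := hm ▸ h16.mul_left _
    exact Nat.dvd_of_mul_dvd_mul_left (by norm_num) this
  have := P.pow_dvd_card_of_pow_dvd_card (n := 3) (by simpa using h8)
  rw [h4] at this
  norm_num at this

theorem semi_pow_exists (g : GL (Fin 2) F) (σ : F ≃+* F) :
    ∀ n : ℕ, ∃ g' : GL (Fin 2) F,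
      (AutPSL.semi g σ) ^ n = (AutPSL.semi g' (σ ^ n) : MulAut (PSL2 F)) := by
  intro n
  induction n with
  | zero => exact ⟨1, by rw [pow_zero, pow_zero]; exact AutPSL.semi_one.symm⟩
  | succ n ih =>
    obtain ⟨g', hg'⟩ := ih
    refine ⟨g' * Matrix.GeneralLinearGroup.map ((σ ^ n : F ≃+* F) : F →+* F) g, ?_⟩
    rw [pow_succ, hg', AutPSL.semi_mul]
    congr 1

/-- An automorphism of 2-power order fixing an abelian Sylow 2-subgroup is inner by one of its elements. -/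
theorem aut_fixing_sylow_two (hodd : Odd (Nat.card F)) (P : Sylow 2 (PSL2 F))
    (hP : ∀ x ∈ (P : Subgroup (PSL2 F)), ∀ y ∈ (P : Subgroup (PSL2 F)), x * y = y * x)
    (α : MulAut (PSL2 F)) (k : ℕ) (hα : α ^ (2 ^ k) = 1)
    (hfix : ∀ v ∈ (P : Subgroup (PSL2 F)), α v = v) :
    ∃ w ∈ (P : Subgroup (PSL2 F)), ∀ x, α x = w * x * w⁻¹ := by
  have h2 : (2 : F) ≠ 0 := two_ne_zero_iff_odd.2 hodd
  have hK := card_sylow_two hodd P hP
  haveI : Finite (PGL2 F) := Finite.of_surjective _ ProjGenLinGroup.mk_surjective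
  obtain ⟨g, σ, hgσ⟩ := AutPSL.exists_semi_of_two α
  subst hgσ
  obtain ⟨g', hg'⟩ := semi_pow_exists g σ (2 ^ k)
  have hσ : σ ^ (2 ^ k) = 1 := (AutPSL.semi_eq_one_iff.1 (hg'.symm.trans hα)).1
  have hσ1 : σ = RingEquiv.refl F := by
    haveI : Finite (F ≃+* F) := Finite.of_injective _ DFunLike.coe_injective
    have hco : (Nat.card (F ≃+* F)).Coprime (2 ^ k) :=
      ((Nat.prime_two.coprime_iff_not_dvd.mpr
        ((odd_fieldAut hodd P hK.card_four).not_two_dvd_nat)).symm).pow_right k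
    exact orderOf_eq_one_iff.mp (Nat.eq_one_of_dvd_coprimes hco (orderOf_dvd_natCard σ)
      (orderOf_dvd_of_pow_eq_one hσ))
  subst hσ1
  obtain ⟨a, ha, b, hb, ha1, hb1, hne⟩ := exists_pair hK.card_four
    (fun v hv => (klein_comm hK hv hv).1)
  set C := centralizer ({φ a, φ b} : Set (PGL2 F)) with hC
  have hinj : Function.Injective φ := ProjectiveSpecialLinearGroup.toPGL_injective
  have hle : (P : Subgroup (PSL2 F)).map φ ≤ C := by
    rintro _ ⟨v, hv, rfl⟩
    rw [hC, mem_centralizer_iff]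
    rintro z (rfl | rfl) <;> rw [← map_mul, ← map_mul]
    exacts [congrArg φ (hP _ ha _ hv), congrArg φ (hP _ hb _ hv)]
  have heq : (P : Subgroup (PSL2 F)).map φ = C := Subgroup.eq_of_le_of_card_ge hle (by
    rw [hC, card_centralizer_klein h2 hK ha hb ha1 hb1 hne,
      Subgroup.card_map_of_injective hinj, hK.card_four])
  have hmem : ProjGenLinGroup.mk g ∈ C := by
    have key : ∀ v ∈ (P : Subgroup (PSL2 F)), φ v * ProjGenLinGroup.mk g = ProjGenLinGroup.mk g * φ v := by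
      intro v hv
      have h := toPGL_outConj g v
      rw [show outConj g v = v from hfix v hv, eq_mul_inv_iff_mul_eq] at h
      exact h
    rw [hC, mem_centralizer_iff]
    rintro z (rfl | rfl)
    exacts [key a ha, key b hb]
  rw [← heq] at hmem
  obtain ⟨w, hw, hwg⟩ := hmem
  refine ⟨w, hw, fun x => hinj ?_⟩
  rw [map_mul, map_mul, map_inv]
  refine (toPGL_outConj g x).trans ?_
  rw [← hwg]

end Cfsg.Agent.JankoReeTypeAut
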