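/-
Abelian Sylow 2-subgroups and a maximal involution centraliser `⟨t⟩ × E`, `PSL_2(q) ⊴ E ≤ Aut PSL_2(q)`.

Main results:
* `Setup.cover_trivial` : a perfect central extension by a 2-group is trivial
* `Setup.aut_inner`     : an automorphism of 2-power order centralising a Sylow 2-subgroup is inner
-/
import Mathlib.GroupTheory.SchurZassenhaus
import Mathlib.GroupTheory.Transfer
import Mathlib.GroupTheory.IndexNormal
import Cfsg.Agent.Lib.JankoReeTypeAut.PSLTwoKlein

set_option autoImplicit false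
set_option linter.unusedSectionVars false

open Subgroup

namespace Cfsg.Agent.JankoReeTypeAut

open Cfsg.Agent.PSL2

universe u

/-- In a simple group the only element of an abelian Sylow subgroup fixed by its normaliser is trivial. -/
theorem eq_one_of_fixed {M : Type*} [Group M] [Finite M] [IsSimpleGroup M] (hM : ¬ IsMulCommutative M)
    {r : ℕ} [Fact r.Prime] (R : Sylow r M) (hR : IsMulCommutative ↥(R : Subgroup M)) {x : M}
    (hx : x ∈ (R : Subgroup M))
    (hc : ∀ g ∈ normalizer ((R : Subgroup M) : Set M), g * x = x * g) : x = 1 := by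
  haveI := hR
  let i : CommGroup ↥(R : Subgroup M) :=
    { (inferInstance : Group ↥(R : Subgroup M)) with mul_comm := fun a b => hR.1.1 a b }
  let θ : M →* ↥(R : Subgroup M) := MonoidHom.transfer (MonoidHom.id ↥(R : Subgroup M))
  have key : ∀ (k : ℕ) (g₀ : M), g₀⁻¹ * x ^ k * g₀ ∈ (R : Subgroup M) →
      g₀⁻¹ * x ^ k * g₀ = x ^ k := by
    intro k g₀ h
    obtain ⟨n, hn, he⟩ := R.conj_eq_normalizer_conj_of_mem (x ^ k) g₀ (pow_mem hx k) h
    rw [he, mul_assoc, ← (Commute.pow_right (hc n hn) k).eq, inv_mul_cancel_left]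
  have hθ : θ x = ⟨x ^ (R : Subgroup M).index, MonoidHom.transfer_eq_pow_aux x key⟩ :=
    MonoidHom.transfer_eq_pow _ x key
  rcases Subgroup.Normal.eq_bot_or_eq_top (inferInstance : θ.ker.Normal) with h | h
  · refine absurd ⟨⟨fun a b => ?_⟩⟩ hM
    exact (MonoidHom.ker_eq_bot_iff θ).mp h (by rw [map_mul, map_mul, mul_comm])
  · have h1 : θ x = 1 := MonoidHom.mem_ker.mp (h ▸ mem_top x)
    rw [hθ] at h1
    have h2 : x ^ (R : Subgroup M).index = 1 := congrArg Subtype.val h1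
    obtain ⟨k, hk⟩ := IsPGroup.iff_card.mp R.2
    have hco : (orderOf x).Coprime (R : Subgroup M).index := by
      refine Nat.Coprime.coprime_dvd_left (Subgroup.orderOf_dvd_natCard _ hx) ?_
      rw [hk]
      exact (((Fact.out : r.Prime).coprime_iff_not_dvd).mpr R.not_dvd_index).pow_left k
    exact orderOf_eq_one_iff.mp (hco.eq_one_of_dvd (orderOf_dvd_of_pow_eq_one h2))

/-- The data: `S` a Sylow 2-subgroup, `t ∈ S` an involution, `N ≅ PSL_2(q)` normal in `C(t)`, `V = S ⊓ N`. -/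
structure Setup {G : Type u} [Group G] (S : Sylow 2 G) (t : G) (N : Subgroup G) : Prop where
  abel : ∀ x ∈ (S : Subgroup G), ∀ y ∈ (S : Subgroup G), x * y = y * x
  tmem : t ∈ (S : Subgroup G)
  tsq : t * t = 1
  tne : t ≠ 1
  nle : N ≤ centralizer ({t} : Set G)
  tnot : t ∉ N
  nnorm : ∀ c ∈ centralizer ({t} : Set G), ∀ n ∈ N, c * n * c⁻¹ ∈ N
  cent : ∀ c ∈ centralizer ({t} : Set G), (∀ n ∈ N, c * n = n * c) → c = 1 ∨ c = t
  simple : IsSimpleGroup ↥N
  card_inf : Nat.card ↥((S : Subgroup G) ⊓ N : Subgroup G) = 4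
  inf_sq : ∀ v ∈ (S : Subgroup G) ⊓ N, v * v = 1
  fixedV : ∀ v ∈ (S : Subgroup G) ⊓ N,
    (∀ x ∈ N, x ∈ normalizer (((S : Subgroup G) ⊓ N : Subgroup G) : Set G) → x * v = v * x) → v = 1
  autN : ∀ (α : MulAut ↥N) (k : ℕ), α ^ (2 ^ k) = 1 → (∀ v : ↥N, (v : G) ∈ (S : Subgroup G) → α v = v) →
    ∃ w : ↥N, (w : G) ∈ (S : Subgroup G) ∧ ∀ x, α x = w * x * w⁻¹

variable {G : Type u} [Group G] [Finite G] {S : Sylow 2 G} {t : G} {N : Subgroup G}

theorem mem_cent {t c : G} : c ∈ centralizer ({t} : Set G) ↔ t * c = c * t := by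
  rw [mem_centralizer_iff]
  exact ⟨fun h => h t rfl, fun h z hz => by rw [Set.mem_singleton_iff] at hz; rw [hz]; exact h⟩

namespace Setup

variable (H : Setup S t N)
include H

theorem t_mem_cent : t ∈ centralizer ({t} : Set G) := mem_cent.mpr rfl

theorem sylow_le : (S : Subgroup G) ≤ centralizer ({t} : Set G) := fun s hs =>
  mem_cent.mpr (H.abel t H.tmem s hs)

/-- An element of `C(t)` inducing the same automorphism of `N` as `d` equals `d` or `t * d`. -/
theorem eq_or_mul {c d : G} (hc : c ∈ centralizer ({t} : Set G)) (hd : d ∈ centralizer ({t} : Set G))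
    (h : ∀ n ∈ N, c * n * c⁻¹ = d * n * d⁻¹) : c = d ∨ c = t * d := by
  have hcd : c * d⁻¹ ∈ centralizer ({t} : Set G) := mul_mem hc (inv_mem hd)
  have hcomm : ∀ n ∈ N, c * d⁻¹ * n = n * (c * d⁻¹) := by
    intro n hn
    have h1 := h (d⁻¹ * n * d) (by simpa using H.nnorm _ (inv_mem hd) n hn)
    have h2 : c * d⁻¹ * n * (c * d⁻¹)⁻¹ = n := by
      calc c * d⁻¹ * n * (c * d⁻¹)⁻¹ = c * (d⁻¹ * n * d) * c⁻¹ := by group
        _ = d * (d⁻¹ * n * d) * d⁻¹ := h1
        _ = n := by group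
    exact mul_inv_eq_iff_eq_mul.mp h2
  rcases H.cent _ hcd hcomm with e | e
  · exact Or.inl (mul_inv_eq_one.mp e)
  · exact Or.inr (by rw [← e, inv_mul_cancel_right])

omit [Finite G] in
/-- Conjugation by an element of `C(t)` as an automorphism of `N`. -/
theorem exists_conjN {c : G} (hc : c ∈ centralizer ({t} : Set G)) :
    ∃ α : MulAut ↥N, ∀ x : ↥N, ((α x : ↥N) : G) = c * x * c⁻¹ := by
  refine ⟨{ toFun := fun x => ⟨c * x * c⁻¹, H.nnorm c hc x x.2⟩
            invFun := fun x => ⟨c⁻¹ * x * c⁻¹⁻¹, H.nnorm c⁻¹ (inv_mem hc) x x.2⟩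
            left_inv := fun x => Subtype.ext (by simp [mul_assoc])
            right_inv := fun x => Subtype.ext (by simp [mul_assoc])
            map_mul' := fun x y => Subtype.ext (by simp [mul_assoc]) }, fun x => rfl⟩

/-- `S = ⟨t⟩ × (S ⊓ N)`. -/
theorem sylow_cases {s : G} (hs : s ∈ (S : Subgroup G)) :
    ∃ v ∈ (S : Subgroup G) ⊓ N, s = v ∨ s = t * v := by
  have hsC := H.sylow_le hs
  obtain ⟨α, hα⟩ := H.exists_conjN hsC
  obtain ⟨k, hk⟩ := S.2 ⟨s, hs⟩
  have hk' : s ^ (2 ^ k) = 1 := by simpa using congrArg Subtype.val hk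
  have hpow : ∀ (m : ℕ) (x : ↥N), (((α ^ m) x : ↥N) : G) = s ^ m * x * (s ^ m)⁻¹ := by
    intro m
    induction m with
    | zero => intro x; simp
    | succ m ih =>
      intro x
      rw [pow_succ, MulAut.mul_apply, ih, hα, pow_succ]
      group
  obtain ⟨w, hw, hwx⟩ := H.autN α k (MulEquiv.ext fun x => Subtype.ext (by rw [hpow, hk']; simp))
    (fun v hv => Subtype.ext (by rw [hα, H.abel s hs _ hv, mul_inv_cancel_right]))
  refine ⟨w, ⟨hw, w.2⟩, H.eq_or_mul hsC (H.nle w.2) (fun n hn => ?_)⟩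
  have := congrArg Subtype.val (hwx ⟨n, hn⟩)
  rw [hα] at this
  simpa using this

theorem sylow_sq {s : G} (hs : s ∈ (S : Subgroup G)) : s * s = 1 := by
  obtain ⟨v, hv, rfl | rfl⟩ := H.sylow_cases hs
  · exact H.inf_sq _ hv
  · rw [mul_assoc, ← mul_assoc v, H.abel v hv.1 t H.tmem, mul_assoc t v v, H.inf_sq v hv, mul_one, H.tsq]

theorem sylow_inv {s : G} (hs : s ∈ (S : Subgroup G)) : s⁻¹ = s :=
  inv_eq_of_mul_eq_one_left (H.sylow_sq hs)

/-- The only element of `S ⊓ N` fixed by `N_N(S)` is trivial. -/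
theorem fixedN : ∀ v ∈ (S : Subgroup G) ⊓ N,
    (∀ x ∈ N, x ∈ normalizer ((S : Subgroup G) : Set G) → x * v = v * x) → v = 1 := by
  intro v hv h
  refine H.fixedV v hv (fun x hx hxV => h x hx ?_)
  have hxt : Commute t x := mem_cent.mp (H.nle hx)
  have hmap : ∀ y : G, y ∈ normalizer (((S : Subgroup G) ⊓ N : Subgroup G) : Set G) → Commute t y →
      ∀ s ∈ (S : Subgroup G), y * s * y⁻¹ ∈ (S : Subgroup G) := by
    intro y hy hty s hs
    obtain ⟨u, hu, e | e⟩ := H.sylow_cases hs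
    · rw [e]; exact ((mem_normalizer_iff.mp hy u).mp hu).1
    · rw [e, show y * (t * u) * y⁻¹ = t * (y * u * y⁻¹) by rw [← mul_assoc y, ← hty.eq]; group]
      exact (S : Subgroup G).mul_mem H.tmem ((mem_normalizer_iff.mp hy u).mp hu).1
  refine mem_normalizer_iff.mpr fun s => ⟨hmap x hxV hxt s, fun hs => ?_⟩
  have := hmap x⁻¹ (inv_mem hxV) hxt.inv_right _ hs
  simpa [mul_assoc] using this

/-- The only elements of `S` fixed by `N_{C(t)}(S)` are `1` and `t`. -/
theorem fixedC {s : G} (hs : s ∈ (S : Subgroup G))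
    (h : ∀ x ∈ centralizer ({t} : Set G), x ∈ normalizer ((S : Subgroup G) : Set G) → x * s = s * x) :
    s = 1 ∨ s = t := by
  obtain ⟨v, hv, hcase⟩ := H.sylow_cases hs
  have hv1 : v = 1 := H.fixedN v hv (fun x hx hxS => by
    have hx' := H.nle hx
    rcases hcase with rfl | rfl
    · exact h x hx' hxS
    · have h1 := h x hx' hxS
      rw [← mul_assoc, ← mem_cent.mp hx', mul_assoc, mul_assoc t v x] at h1
      exact mul_left_cancel h1)
  rcases hcase with e | e
  · exact Or.inl (e.trans hv1)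
  · exact Or.inr (by rw [e, hv1, mul_one])

/-- `S ⊓ N` is irreducible under `N_{C(t)}(S)`. -/
theorem irreducible (K : Subgroup G) (hK : K ≤ (S : Subgroup G) ⊓ N)
    (hinv : ∀ x ∈ centralizer ({t} : Set G), x ∈ normalizer ((S : Subgroup G) : Set G) →
      ∀ v ∈ K, x * v * x⁻¹ ∈ K)
    (hne : K ≠ ⊥) : (S : Subgroup G) ⊓ N ≤ K := by
  obtain ⟨k, hk, hk1⟩ := (Subgroup.bot_or_exists_ne_one K).resolve_left hne
  by_cases h2 : ∀ v ∈ K, v = 1 ∨ v = k
  · exfalso
    refine hk1 (H.fixedN k (hK hk) (fun x hx hxS => ?_))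
    rcases h2 _ (hinv x (H.nle hx) hxS k hk) with e | e
    · exact absurd (conj_eq_one_iff.mp e) hk1
    · exact mul_inv_eq_iff_eq_mul.mp e
  · push Not at h2
    obtain ⟨v, hv, hv1, hvk⟩ := h2
    have hdvd := Subgroup.card_dvd_of_le hK
    rw [H.card_inf] at hdvd
    have h3 : 2 < Nat.card ↥K := by
      have : Nat.card ↥({1, k, v} : Set G) ≤ Nat.card ↥K :=
        Nat.card_le_card_of_injective (fun z => ⟨z.1, by
          rcases z.2 with e | e | e <;> rw [e]
          exacts [one_mem _, hk, hv]⟩)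
          fun x y e => Subtype.ext (congrArg (fun w : ↥K => (w : G)) e)
      rw [Nat.card_coe_set_eq, Set.ncard_eq_three.2 ⟨1, k, v, Ne.symm hk1, Ne.symm hv1, Ne.symm hvk, rfl⟩] at this
      omega
    have h4 := Nat.le_of_dvd (by norm_num) hdvd
    rcases (show Nat.card ↥K = 3 ∨ Nat.card ↥K = 4 by omega) with e | e
    · rw [e] at hdvd; norm_num at hdvd
    · exact (Subgroup.eq_of_le_of_card_ge hK (by rw [H.card_inf, e])).ge

theorem inf_ne_bot : (S : Subgroup G) ⊓ N ≠ ⊥ := fun h => by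
  have := H.card_inf
  rw [h, Subgroup.card_bot] at this
  omega

variable [IsSimpleGroup G] (hG : ¬ IsMulCommutative G)
include hG

/-- `t` is moved by `N(S)`. -/
theorem exists_move : ∃ x ∈ normalizer ((S : Subgroup G) : Set G), x * t ≠ t * x := by
  by_contra h
  push Not at h
  exact H.tne (eq_one_of_fixed hG S ⟨⟨fun a b => Subtype.ext (H.abel a a.2 b b.2)⟩⟩ H.tmem h)

/-- A perfect central extension of `G` by a 2-group is trivial. -/
theorem cover_trivial {L : Type*} [Group L] [Finite L] (q : L →* G) (hq : Function.Surjective q)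
    (hcen : q.ker ≤ Subgroup.center L) (hker : IsPGroup 2 ↥q.ker) (hperf : commutator L = ⊤) :
    q.ker = ⊥ := by
  obtain ⟨P, hPdef⟩ : ∃ P : Subgroup L, P = (S : Subgroup G).comap q := ⟨_, rfl⟩
  have hmemP : ∀ b, b ∈ P ↔ q b ∈ (S : Subgroup G) := fun b => by rw [hPdef]; rfl
  have hP2 : IsPGroup 2 ↥P := hPdef ▸ S.2.comap_of_ker_isPGroup q hker
  have hcomm_ker : ∀ z ∈ q.ker, ∀ y : L, z * y = y * z := fun z hz y =>
    (Subgroup.mem_center_iff.mp (hcen hz) y).symm
  have hlift : ∀ y : L, q y ∈ normalizer ((S : Subgroup G) : Set G) → ∀ b ∈ P, y * b * y⁻¹ ∈ P := by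
    intro y hy b hb
    rw [hmemP, map_mul, map_mul, map_inv]
    exact (mem_normalizer_iff.mp hy _).mp ((hmemP b).mp hb)
  obtain ⟨a, ha⟩ := hq t
  have haP : a ∈ P := (hmemP a).mpr (ha ▸ H.tmem)
  -- the lifts commuting with `a`
  let K : Subgroup G := (centralizer ({a} : Set L) ⊓ P).map q ⊓ N
  have hKle : K ≤ (S : Subgroup G) ⊓ N := by
    rintro v ⟨⟨b, hb, rfl⟩, hv⟩
    exact ⟨(hmemP b).mp hb.2, hv⟩
  have hconj_a : ∀ y : L, q y ∈ centralizer ({t} : Set G) → ∃ z ∈ q.ker, y * a * y⁻¹ = a * z := by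
    intro y hy
    refine ⟨a⁻¹ * (y * a * y⁻¹), ?_, (mul_inv_cancel_left _ _).symm⟩
    rw [MonoidHom.mem_ker, map_mul, map_mul, map_mul, map_inv, map_inv, ha, ← mem_cent.mp hy]
    group
  have hKinv : ∀ x ∈ centralizer ({t} : Set G), x ∈ normalizer ((S : Subgroup G) : Set G) →
      ∀ v ∈ K, x * v * x⁻¹ ∈ K := by
    rintro x hx hxS v ⟨⟨b, hb, rfl⟩, hv⟩
    obtain ⟨y, rfl⟩ := hq x
    obtain ⟨z, hz, hza⟩ := hconj_a y hx
    refine ⟨⟨y * b * y⁻¹, ⟨?_, hlift y hxS b hb.2⟩, by simp⟩, H.nnorm _ hx _ hv⟩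
    show y * b * y⁻¹ ∈ centralizer ({a} : Set L)
    have hab : a * b = b * a := mem_cent.mp hb.1
    rw [mem_cent]
    have h1 : (a * z) * (y * b * y⁻¹) = (y * b * y⁻¹) * (a * z) := by
      rw [← hza]
      calc y * a * y⁻¹ * (y * b * y⁻¹) = y * (a * b) * y⁻¹ := by group
        _ = y * (b * a) * y⁻¹ := by rw [hab]
        _ = y * b * y⁻¹ * (y * a * y⁻¹) := by group
    rw [mul_assoc, hcomm_ker z hz, ← mul_assoc, ← mul_assoc (y * b * y⁻¹) a z] at h1
    exact mul_right_cancel h1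
  have hKne : K ≠ ⊥ := by
    intro hKb
    obtain ⟨v, hv, hv1⟩ := (Subgroup.bot_or_exists_ne_one _).resolve_left H.inf_ne_bot
    refine hv1 (H.fixedN v hv (fun x hx hxS => ?_))
    obtain ⟨y, rfl⟩ := hq x
    obtain ⟨b, rfl⟩ := hq v
    obtain ⟨z, hz, hza⟩ := hconj_a y (H.nle hx)
    -- `[a, b]` is central
    set w := b⁻¹ * a⁻¹ * b * a with hw
    have hwk : w ∈ q.ker := by
      rw [MonoidHom.mem_ker, hw, map_mul, map_mul, map_mul, map_inv, map_inv, ha,
        mul_assoc, H.abel (q b) hv.1 t H.tmem]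
      group
    have hba : b * a = a * b * w := by rw [hw]; group
    have hyb : y * b * y⁻¹ * a = a * (y * b * y⁻¹) * w := by
      have h1 : y * b * y⁻¹ * (a * z) = (a * z) * (y * b * y⁻¹) * w := by
        rw [← hza]
        calc y * b * y⁻¹ * (y * a * y⁻¹) = y * (b * a) * y⁻¹ := by group
          _ = y * (a * b * w) * y⁻¹ := by rw [hba]
          _ = y * (a * b) * (w * y⁻¹) := by group
          _ = y * (a * b) * (y⁻¹ * w) := by rw [hcomm_ker w hwk]
          _ = y * a * y⁻¹ * (y * b * y⁻¹) * w := by group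
      rw [mul_assoc a z, hcomm_ker z hz (y * b * y⁻¹), ← mul_assoc a, mul_assoc (a * _) z w,
        hcomm_ker z hz w, ← mul_assoc (a * _) w z, ← mul_assoc (y * b * y⁻¹) a z] at h1
      exact mul_right_cancel h1
    have hmem : q (b⁻¹ * (y * b * y⁻¹)) ∈ K := by
      have h2 : b⁻¹ * (y * b * y⁻¹) ∈ centralizer ({a} : Set L) := by
        rw [mem_cent, mul_assoc b⁻¹, hyb]
        have hab' : b⁻¹ * a = a * b⁻¹ * w⁻¹ := by
          rw [eq_mul_inv_iff_mul_eq]
          calc b⁻¹ * a * w = b⁻¹ * a * b * (b⁻¹ * w) := by group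
            _ = b⁻¹ * a * b * (w * b⁻¹) := by rw [hcomm_ker w hwk]
            _ = b⁻¹ * (a * b * w) * b⁻¹ := by group
            _ = b⁻¹ * (b * a) * b⁻¹ := by rw [hba]
            _ = a * b⁻¹ := by group
        rw [mul_assoc a, ← mul_assoc b⁻¹ a, hab', mul_assoc (a * b⁻¹),
          hcomm_ker w⁻¹ (inv_mem hwk) (y * b * y⁻¹ * w)]
        group
      refine ⟨⟨_, ⟨h2, P.mul_mem (P.inv_mem ((hmemP b).mpr hv.1))
        (hlift y hxS b ((hmemP b).mpr hv.1))⟩, rfl⟩, ?_⟩
      rw [map_mul, map_inv, map_mul, map_mul, map_inv]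
      exact N.mul_mem (N.inv_mem hv.2) (N.mul_mem (N.mul_mem hx hv.2) (N.inv_mem hx))
    rw [hKb, Subgroup.mem_bot, map_mul, map_inv, inv_mul_eq_one, map_mul, map_mul, map_inv] at hmem
    exact (eq_mul_inv_iff_mul_eq.mp hmem).symm
  have hKall := H.irreducible K hKle hKinv hKne
  have hmod : ∀ b c : L, q b = q c → ∃ z ∈ q.ker, b = c * z := fun b c hbc =>
    ⟨c⁻¹ * b, by rw [MonoidHom.mem_ker, map_mul, map_inv, hbc, inv_mul_cancel],
      (mul_inv_cancel_left _ _).symm⟩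
  -- a lift of `t` is central in `P`
  have hacen : ∀ b ∈ P, Commute a b := by
    intro b hb
    obtain ⟨v, hv, hcase⟩ := H.sylow_cases ((hmemP b).mp hb)
    obtain ⟨⟨c, hc, hcv⟩, -⟩ := hKall hv
    have hac : Commute a c := mem_cent.mp hc.1
    rcases hcase with e | e
    · obtain ⟨z, hz, rfl⟩ := hmod b c (e.trans hcv.symm)
      exact hac.mul_right (hcomm_ker z hz a).symm
    · obtain ⟨z, hz, rfl⟩ := hmod b (a * c) (by rw [e, map_mul, hcv, ha])
      exact ((Commute.refl a).mul_right hac).mul_right (hcomm_ker z hz a).symm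
  let W : Subgroup G := (centralizer (P : Set L) ⊓ P).map q
  have htW : t ∈ W := ⟨a, ⟨mem_centralizer_iff.mpr fun b hb => (hacen b hb).eq.symm, haP⟩, ha⟩
  have hWinv : ∀ x ∈ normalizer ((S : Subgroup G) : Set G), ∀ v ∈ W, x * v * x⁻¹ ∈ W := by
    rintro x hx v ⟨b, hb, rfl⟩
    obtain ⟨y, rfl⟩ := hq x
    refine ⟨y * b * y⁻¹, ⟨mem_centralizer_iff.mpr fun c hc => ?_, hlift y hx b hb.2⟩, by simp⟩
    have hc' : y⁻¹ * c * y ∈ P := by
      have := hlift y⁻¹ (by rw [map_inv]; exact inv_mem hx) c hc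
      rwa [inv_inv] at this
    have := mem_centralizer_iff.mp hb.1 _ hc'
    calc c * (y * b * y⁻¹) = y * ((y⁻¹ * c * y) * b) * y⁻¹ := by group
      _ = y * (b * (y⁻¹ * c * y)) * y⁻¹ := by rw [this]
      _ = y * b * y⁻¹ * c := by group
  obtain ⟨x, hx, hxt⟩ := H.exists_move hG
  have ht' : x * t * x⁻¹ ∈ W := hWinv x hx t htW
  obtain ⟨v, hv, hcase⟩ := H.sylow_cases ((mem_normalizer_iff.mp hx t).mp H.tmem)
  have hvW : v ∈ W := by
    rcases hcase with e | e
    · exact e ▸ ht'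
    · have h1 : t * (x * t * x⁻¹) ∈ W := mul_mem htW ht'
      rwa [e, ← mul_assoc, H.tsq, one_mul] at h1
  have hv1 : v ≠ 1 := by
    rintro rfl
    rcases hcase with e | e
    · exact H.tne (conj_eq_one_iff.mp e)
    · rw [mul_one] at e
      exact hxt (mul_inv_eq_iff_eq_mul.mp e)
  have hVW := H.irreducible (W ⊓ N) (fun w hw => ⟨by
      obtain ⟨b, hb, rfl⟩ := hw.1
      exact (hmemP b).mp hb.2, hw.2⟩)
    (fun y hy hyS w hw => ⟨hWinv y hyS w hw.1, H.nnorm y hy w hw.2⟩)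
    (fun h => hv1 (by have : v ∈ W ⊓ N := ⟨hvW, hv.2⟩; rwa [h, Subgroup.mem_bot] at this))
  have hPab : ∀ b ∈ P, ∀ c ∈ P, b * c = c * b := by
    intro b hb c hc
    have hbW : q b ∈ W := by
      obtain ⟨w, hw, e | e⟩ := H.sylow_cases ((hmemP b).mp hb)
      · exact e ▸ (hVW hw).1
      · exact e ▸ mul_mem htW (hVW hw).1
    obtain ⟨d, hd, hdb⟩ := hbW
    obtain ⟨z, hz, rfl⟩ := hmod b d hdb.symm
    exact (Commute.mul_left (mem_centralizer_iff.mp hd.1 c hc).symm (hcomm_ker z hz c)).eq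
  haveI hPc : IsMulCommutative ↥P := ⟨⟨fun b c => Subtype.ext (hPab b b.2 c c.2)⟩⟩
  let i : CommGroup ↥P := { (inferInstance : Group ↥P) with mul_comm := fun b c => hPc.1.1 b c }
  let θ : L →* ↥P := MonoidHom.transfer (MonoidHom.id ↥P)
  have hθ : ∀ z, θ z = 1 := fun z => MonoidHom.mem_ker.mp
    (Abelianization.commutator_subset_ker θ (hperf ▸ mem_top z))
  rw [eq_bot_iff]
  intro z hz
  have key : ∀ (k : ℕ) (g₀ : L), g₀⁻¹ * z ^ k * g₀ ∈ P → g₀⁻¹ * z ^ k * g₀ = z ^ k := fun k g₀ _ => by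
    rw [mul_assoc, hcomm_ker _ (pow_mem hz k) g₀, inv_mul_cancel_left]
  have h1 : θ z = ⟨z ^ P.index, MonoidHom.transfer_eq_pow_aux z key⟩ :=
    MonoidHom.transfer_eq_pow _ z key
  rw [hθ] at h1
  have h2 : z ^ P.index = 1 := (congrArg Subtype.val h1).symm
  have hidx : P.index = (S : Subgroup G).index := by rw [hPdef]; exact index_comap_of_surjective _ hq
  have hzP : z ∈ P := (hmemP z).mpr (by rw [MonoidHom.mem_ker.mp hz]; exact one_mem _)
  obtain ⟨k, hk⟩ := IsPGroup.iff_card.mp hP2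
  have hco : (orderOf z).Coprime P.index := by
    refine Nat.Coprime.coprime_dvd_left (Subgroup.orderOf_dvd_natCard _ hzP) ?_
    rw [hk, hidx]
    exact (Nat.prime_two.coprime_iff_not_dvd.mpr S.not_dvd_index).pow_left k
  exact Subgroup.mem_bot.mpr (orderOf_eq_one_iff.mp (hco.eq_one_of_dvd (orderOf_dvd_of_pow_eq_one h2)))

/-- An automorphism of 2-power order centralising `S` is inner. -/
theorem aut_inner (hmax : IsCoatom (centralizer ({t} : Set G))) (a : G ≃* G) (k : ℕ)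
    (hk : (a : MulAut G) ^ (2 ^ k) = 1) (hfix : ∀ s ∈ (S : Subgroup G), a s = s) :
    ∃ g : G, ∀ x : G, a x = g * x * g⁻¹ := by
  have hC : ∀ c, c ∈ centralizer ({t} : Set G) → a c ∈ centralizer ({t} : Set G) := by
    intro c hc
    rw [mem_cent, ← hfix t H.tmem, ← map_mul, ← map_mul, mem_cent.mp hc]
  have hCinv : ∀ c, c ∈ centralizer ({t} : Set G) → a.symm c ∈ centralizer ({t} : Set G) := by
    intro c hc
    rw [mem_cent]
    apply a.injective
    rw [map_mul, map_mul, hfix t H.tmem, a.apply_symm_apply, mem_cent.mp hc]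
  haveI := H.simple
  -- `a` normalises `N`
  have hN : ∀ n ∈ N, a n ∈ N := by
    let M : Subgroup G := N.map a.toMonoidHom
    have hM : M ≤ centralizer ({t} : Set G) := by
      rintro _ ⟨n, hn, rfl⟩; exact hC n (H.nle hn)
    have hMn : ∀ c ∈ centralizer ({t} : Set G), ∀ m ∈ M, c * m * c⁻¹ ∈ M := by
      rintro c hc _ ⟨n, hn, rfl⟩
      exact ⟨a.symm c * n * (a.symm c)⁻¹, H.nnorm _ (hCinv c hc) n hn, by simp⟩
    haveI : (M.subgroupOf N).Normal :=
      ⟨fun m hm x => by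
        rw [mem_subgroupOf] at hm ⊢
        simpa using hMn x (H.nle x.2) m hm⟩
    rcases Subgroup.Normal.eq_bot_or_eq_top (inferInstance : (M.subgroupOf N).Normal) with h | h
    · exfalso
      have hdis : ∀ g, g ∈ M → g ∈ N → g = 1 := fun g hg hgN =>
        congrArg Subtype.val (Subgroup.mem_bot.mp
          (h.le (show (⟨g, hgN⟩ : ↥N) ∈ M.subgroupOf N from hg)))
      obtain ⟨v, hv, hv1⟩ := (Subgroup.bot_or_exists_ne_one _).resolve_left H.inf_ne_bot
      have hav : a v = v := hfix v hv.1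
      exact hv1 (hdis v ⟨v, hv.2, hav⟩ hv.2)
    · intro n hn
      have hle : N ≤ M := Subgroup.subgroupOf_eq_top.mp h
      have heq : N = M := Subgroup.eq_of_le_of_card_ge hle
        (le_of_eq (Subgroup.card_map_of_injective a.injective))
      rw [heq]; exact ⟨n, hn, rfl⟩
  -- correct by an element of `S ⊓ N`
  have hinjN : Function.Injective (fun x : ↥N => (⟨a x, hN x x.2⟩ : ↥N)) := fun x y h =>
    Subtype.ext (a.injective (congrArg Subtype.val h))
  let α : MulAut ↥N := MulEquiv.ofBijective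
    ({ toFun := fun x => ⟨a (x : G), hN _ x.2⟩
       map_one' := Subtype.ext (map_one a)
       map_mul' := fun x y => Subtype.ext (map_mul a (x : G) y) } : ↥N →* ↥N)
    ⟨hinjN, Finite.surjective_of_injective hinjN⟩
  have hα : ∀ (m : ℕ) (x : ↥N), (((α ^ m) x : ↥N) : G) = ((a : MulAut G) ^ m) x := by
    intro m
    induction m with
    | zero => intro x; simp
    | succ m ih => intro x; rw [pow_succ, pow_succ, MulAut.mul_apply, MulAut.mul_apply, ih]; rfl
  obtain ⟨w, hw, hwx⟩ := H.autN α k (MulEquiv.ext fun x => Subtype.ext (by rw [hα, hk]; rfl))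
    (fun v hv => Subtype.ext (hfix v hv))
  let b : MulAut G := MulAut.conj (w : G)⁻¹ * (a : MulAut G)
  have hb : ∀ x, b x = (w : G)⁻¹ * a x * w := fun x => by
    show MulAut.conj (w : G)⁻¹ (a x) = _
    simp
  have hbfix : ∀ s ∈ (S : Subgroup G), b s = s := fun s hs => by
    rw [hb, hfix s hs, H.abel _ (inv_mem hw) s hs, inv_mul_cancel_right]
  have hbN : ∀ n ∈ N, b n = n := by
    intro n hn
    have h1 : a n = (w : G) * n * (w : G)⁻¹ := by
      have := congrArg Subtype.val (hwx ⟨n, hn⟩)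
      exact this
    rw [hb, h1]; group
  have hbk : b ^ (2 ^ (k + 1)) = 1 := by
    have hcm : Commute (MulAut.conj (w : G)⁻¹) (a : MulAut G) := MulEquiv.ext fun x => by
      show MulAut.conj (w : G)⁻¹ (a x) = a (MulAut.conj (w : G)⁻¹ x)
      simp [map_mul, map_inv, hfix _ hw]
    rw [hcm.mul_pow, ← map_pow, pow_succ 2 k, pow_mul (a : MulAut G), hk, one_pow, mul_one,
      mul_comm, pow_mul, pow_two, H.sylow_sq (inv_mem hw), one_pow, map_one]
  have hbC : ∀ c ∈ centralizer ({t} : Set G), b c ∈ centralizer ({t} : Set G) := fun c hc => by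
    rw [mem_cent, ← hbfix t H.tmem, ← map_mul, ← map_mul, mem_cent.mp hc]
  have hb2 : ∀ c ∈ centralizer ({t} : Set G), b c = c ∨ b c = t * c := by
    intro c hc
    refine H.eq_or_mul (hbC c hc) hc (fun n hn => ?_)
    rw [← hbN (c * n * c⁻¹) (H.nnorm c hc n hn), map_mul, map_mul, map_inv, hbN n hn]
  -- `b` centralises `C(t)`
  have hbc : ∀ c ∈ centralizer ({t} : Set G), b c = c := by
    intro c hc
    rcases hb2 c hc with e | e
    · exact e
    exfalso
    obtain ⟨j, m, hm, hord⟩ := Nat.exists_eq_pow_mul_and_not_dvd (orderOf_pos c).ne' 2 (by norm_num)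
    obtain ⟨i, hi⟩ : Odd m := Nat.odd_iff.mpr (by omega)
    have hu : (c ^ m) ^ (2 ^ j) = 1 := by rw [← pow_mul, mul_comm, ← hord, pow_orderOf_eq_one]
    have hbu : b (c ^ m) = t * c ^ m := by
      have hct : Commute t c := mem_cent.mp hc
      rw [map_pow, e, hct.mul_pow, hi, pow_succ, pow_mul, pow_two, H.tsq, one_pow, one_mul]
    set uC : ↥(centralizer ({t} : Set G)) := ⟨c ^ m, pow_mem hc m⟩ with huC
    have hu2 : IsPGroup 2 ↥(zpowers uC) := IsPGroup.of_card (n := _) (by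
      rw [Nat.card_zpowers]
      exact (Classical.choose_spec ((Nat.dvd_prime_pow Nat.prime_two).mp
        (orderOf_dvd_of_pow_eq_one (x := uC) (n := 2 ^ j) (Subtype.ext hu)))).2)
    obtain ⟨R, hR⟩ := hu2.exists_le_sylow
    obtain ⟨y, hy⟩ := MulAction.exists_smul_eq ↥(centralizer ({t} : Set G)) R (S.subtype H.sylow_le)
    have hyu : (y : G) * c ^ m * (y : G)⁻¹ ∈ (S : Subgroup G) := by
      have h1 : y * uC * y⁻¹ ∈ ((y • R : Sylow 2 _) : Subgroup ↥(centralizer ({t} : Set G))) := by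
        rw [Sylow.coe_subgroup_smul, Subgroup.mem_smul_pointwise_iff_exists]
        exact ⟨uC, hR (mem_zpowers uC), by rw [MulAut.smul_def, MulAut.conj_apply]⟩
      rw [hy] at h1
      exact h1
    have h2 := hbfix _ hyu
    have hty : ∀ z : G, t * z = z * t → t * z * (c ^ m) * (t * z)⁻¹ = z * c ^ m * z⁻¹ := by
      intro z hz
      have hcu : Commute t (c ^ m) := Commute.pow_right (mem_cent.mp hc) m
      rw [hz, mul_assoc z t, hcu.eq]
      group
    have h3 : b (y : G) * c ^ m * (b (y : G))⁻¹ = (y : G) * c ^ m * (y : G)⁻¹ := by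
      rcases hb2 y y.2 with e' | e' <;> rw [e']
      exact hty _ (mem_cent.mp y.2)
    rw [map_mul, map_mul, map_inv, hbu] at h2
    have hbt : Commute t (b (y : G)) := mem_cent.mp (hbC y y.2)
    have h4 : t * ((y : G) * c ^ m * (y : G)⁻¹) = (y : G) * c ^ m * (y : G)⁻¹ := by
      conv_rhs => rw [← h2]
      rw [← h3, ← mul_assoc (b (y : G)) t, ← hbt.eq]
      group
    exact H.tne (mul_eq_right.mp h4)
  -- the cocycle on `N(S)`
  have hcoc : ∀ x ∈ normalizer ((S : Subgroup G) : Set G), x⁻¹ * b x ∈ (S : Subgroup G) := by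
    intro x hx
    have hcS : ∀ s ∈ (S : Subgroup G), x⁻¹ * b x * s = s * (x⁻¹ * b x) := by
      intro s hs
      have hxs := (mem_normalizer_iff.mp hx s).mp hs
      have h1 : b x * s * (b x)⁻¹ = x * s * x⁻¹ := by
        conv_rhs => rw [← hbfix _ hxs, map_mul, map_mul, map_inv, hbfix s hs]
      rw [mul_assoc, mul_inv_eq_iff_eq_mul.mp h1]
      group
    have hcC : x⁻¹ * b x ∈ centralizer ({t} : Set G) := mem_cent.mpr (hcS t H.tmem).symm
    have hbc' := hbc _ hcC
    have hiter : ∀ n : ℕ, (b ^ n) x = x * (x⁻¹ * b x) ^ n := by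
      intro n
      induction n with
      | zero => simp
      | succ n ih =>
        rw [pow_succ', MulAut.mul_apply, ih, map_mul, map_pow, hbc', pow_succ', ← mul_assoc x,
          mul_inv_cancel_left]
    have hpow : (x⁻¹ * b x) ^ (2 ^ (k + 1)) = 1 := by
      have := hiter (2 ^ (k + 1))
      rw [hbk] at this
      simpa using this
    have h2g : IsPGroup 2 ↥(zpowers (x⁻¹ * b x)) := IsPGroup.of_card (n := _) (by
      rw [Nat.card_zpowers]
      exact (Classical.choose_spec ((Nat.dvd_prime_pow Nat.prime_two).mp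
        (orderOf_dvd_of_pow_eq_one hpow))).2)
    have hcN : x⁻¹ * b x ∈ normalizer ((S : Subgroup G) : Set G) :=
      mem_normalizer_iff.mpr fun s => ⟨fun hs => by rw [hcS s hs, mul_inv_cancel_right]; exact hs,
        fun hs => by
          have h := hcS _ hs
          rw [inv_mul_cancel_right] at h
          have h' : x⁻¹ * b x * s * (x⁻¹ * b x)⁻¹ = s := mul_left_cancel h
          rwa [h'] at hs⟩
    exact ((h2g.inf_normalizer_sylow S).le ⟨mem_zpowers _, hcN⟩).2
  -- a complement of `S` in `N(S)`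
  let T := normalizer ((S : Subgroup G) : Set G)
  obtain ⟨R, hR⟩ := Subgroup.exists_right_complement'_of_coprime (N := (S : Subgroup G).subgroupOf T) (by
    have h1 := (S.subtype (Subgroup.le_normalizer (H := (S : Subgroup G)))).not_dvd_index
    obtain ⟨e, he⟩ := IsPGroup.iff_card.mp (S.subtype (Subgroup.le_normalizer (H := (S : Subgroup G)))).2
    rw [Sylow.coe_subtype] at h1 he
    rw [he]
    exact (Nat.prime_two.coprime_iff_not_dvd.mpr h1).pow_left e)
  have hRodd : Odd (Nat.card ↥R) := by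
    rw [← hR.symm.index_eq_card]
    have h1 := (S.subtype (Subgroup.le_normalizer (H := (S : Subgroup G)))).not_dvd_index
    rw [Sylow.coe_subtype] at h1
    exact Nat.odd_iff.mpr (Nat.two_dvd_ne_zero.mp h1)
  haveI hSc : IsMulCommutative ↥(S : Subgroup G) := ⟨⟨fun u v => Subtype.ext (H.abel u u.2 v v.2)⟩⟩
  let i : CommGroup ↥(S : Subgroup G) :=
    { (inferInstance : Group ↥(S : Subgroup G)) with mul_comm := fun u v => hSc.1.1 u v }
  haveI : Fintype ↥R := Fintype.ofFinite _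
  let c : ↥R → ↥(S : Subgroup G) := fun r => ⟨((r : ↥T) : G)⁻¹ * b ((r : ↥T) : G), hcoc _ (r : ↥T).2⟩
  let s₀ : ↥(S : Subgroup G) := ∏ r, c r
  have hs₀ : ∀ r : ↥R, b ((r : ↥T) : G) = (s₀ : G) * ((r : ↥T) : G) * (s₀ : G) := by
    intro r
    set x := ((r : ↥T) : G) with hx
    let κ : ↥(S : Subgroup G) →* ↥(S : Subgroup G) :=
      { toFun := fun s => ⟨x⁻¹ * s * x, (mem_normalizer_iff''.mp (r : ↥T).2 _).mp s.2⟩
        map_one' := Subtype.ext (by simp)
        map_mul' := fun u v => Subtype.ext (by simp [mul_assoc]) }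
    have hmul : ∀ y : ↥R, c (y * r) = κ (c y) * c r := fun y => Subtype.ext (by
      show _ = x⁻¹ * _ * x * _
      simp only [c, Subgroup.coe_mul, map_mul, ← hx]
      group)
    have h1 : s₀ = κ s₀ * (c r) ^ (Fintype.card ↥R) := by
      calc s₀ = ∏ y, c (y * r) := (Fintype.prod_equiv (Equiv.mulRight r) _ _ (fun y => rfl)).symm
        _ = ∏ y, κ (c y) * c r := Finset.prod_congr rfl fun y _ => hmul y
        _ = _ := by rw [Finset.prod_mul_distrib, ← map_prod, Finset.prod_const, Finset.card_univ]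
    obtain ⟨i, hi⟩ := hRodd
    rw [Nat.card_eq_fintype_card] at hi
    rw [hi, pow_succ, pow_mul, pow_two, show c r * c r = 1 from Subtype.ext (H.sylow_sq (c r).2),
      one_pow, one_mul] at h1
    have h2 : (s₀ : G) = x⁻¹ * s₀ * x * (x⁻¹ * b x) := congrArg Subtype.val h1
    have h3 : b x = x * (x⁻¹ * s₀ * x)⁻¹ * s₀ := by
      calc b x = x * (x⁻¹ * (s₀ : G) * x)⁻¹ * (x⁻¹ * s₀ * x * (x⁻¹ * b x)) := by group
        _ = _ := by rw [← h2]
    rw [h3]
    have hinv := H.sylow_inv s₀.2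
    calc x * (x⁻¹ * (s₀ : G) * x)⁻¹ * s₀ = (s₀ : G)⁻¹ * x * s₀ := by group
      _ = _ := by rw [hinv]
  have hs2 : (s₀ : G) * (s₀ : G) = 1 := H.sylow_sq s₀.2
  have hfixed : ∀ x ∈ centralizer ({t} : Set G), x ∈ T → x * (s₀ : G) = (s₀ : G) * x := by
    intro x hx hxT
    obtain ⟨⟨σ, r⟩, hsr⟩ := hR.2 ⟨x, hxT⟩
    have hσ : (((σ : ↥T)) : G) ∈ (S : Subgroup G) := mem_subgroupOf.mp σ.2
    have hxe : x = ((σ : ↥T) : G) * ((r : ↥T) : G) := (congrArg Subtype.val hsr).symm
    have hr : ((r : ↥T) : G) ∈ centralizer ({t} : Set G) := by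
      have : ((r : ↥T) : G) = ((σ : ↥T) : G)⁻¹ * x := by rw [hxe, inv_mul_cancel_left]
      rw [this]; exact mul_mem (inv_mem (H.sylow_le hσ)) hx
    have h1 : (s₀ : G) * ((r : ↥T) : G) * (s₀ : G) = ((r : ↥T) : G) := (hs₀ r).symm.trans (hbc _ hr)
    have h2 : ((r : ↥T) : G) * (s₀ : G) = (s₀ : G) * ((r : ↥T) : G) := by
      conv_lhs => rw [← h1]
      rw [mul_assoc, hs2, mul_one]
    rw [hxe, mul_assoc, h2, ← mul_assoc, H.abel _ hσ _ s₀.2, mul_assoc]
  have hs₀t : Commute t (s₀ : G) := H.abel t H.tmem _ s₀.2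
  have hs₀C : ∀ x ∈ centralizer ({t} : Set G), (s₀ : G) * x * (s₀ : G) = x := by
    intro x hx
    rcases H.fixedC s₀.2 hfixed with e | e <;> rw [e]
    · simp
    · rw [mem_cent.mp hx, mul_assoc, H.tsq, mul_one]
  -- the fixed points of `conj s₀ ∘ b`
  let d : G →* G := ((MulAut.conj (s₀ : G)) * b).toMonoidHom
  have hd : ∀ x, d x = (s₀ : G) * b x * (s₀ : G) := fun x => by
    show MulAut.conj (s₀ : G) (b x) = _
    rw [MulAut.conj_apply, H.sylow_inv s₀.2]
  let Fx : Subgroup G := d.eqLocus (MonoidHom.id G)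
  have hFC : centralizer ({t} : Set G) ≤ Fx := fun x hx => by
    show d x = x
    rw [hd, hbc x hx, hs₀C x hx]
  have hFR : ∀ r : ↥R, ((r : ↥T) : G) ∈ Fx := fun r => by
    show d _ = _
    rw [hd, hs₀ r, ← mul_assoc, ← mul_assoc, hs2, one_mul, mul_assoc, hs2]
    simp
  have hFx : Fx = ⊤ := by
    refine (eq_or_lt_of_le hFC).elim (fun e => ?_) (fun e => hmax.2 _ e)
    exfalso
    obtain ⟨x, hx, hxt⟩ := H.exists_move hG
    obtain ⟨⟨σ, r⟩, hsr⟩ := hR.2 ⟨x, hx⟩
    have hxe : x = ((σ : ↥T) : G) * ((r : ↥T) : G) := (congrArg Subtype.val hsr).symm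
    refine hxt (mem_cent.mp ?_).symm
    rw [hxe]
    exact mul_mem (H.sylow_le (mem_subgroupOf.mp σ.2)) (e ▸ hFR r)
  refine ⟨(w : G) * (s₀ : G), fun x => ?_⟩
  have h1 : (s₀ : G) * b x * (s₀ : G) = x := by
    rw [← hd]
    exact (hFx ▸ mem_top x : x ∈ Fx)
  have h2 : b x = (s₀ : G) * x * (s₀ : G) := by
    conv_rhs => rw [← h1]
    rw [← mul_assoc, ← mul_assoc, hs2, one_mul, mul_assoc, hs2, mul_one]
  rw [hb] at h2
  calc a x = (w : G) * ((w : G)⁻¹ * a x * w) * (w : G)⁻¹ := by group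
    _ = (w : G) * ((s₀ : G) * x * (s₀ : G)) * (w : G)⁻¹ := by rw [h2]
    _ = _ := by
      conv_rhs => rw [_root_.mul_inv_rev, H.sylow_inv s₀.2]
      group

end Setup

end Cfsg.Agent.JankoReeTypeAut
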